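import Cfsg.Agent.Lib.Bender.GoodAll
import Cfsg.Agent.Lib.Bender.ConsSimple
import Cfsg.Agent.Lib.RankOne.Central
import Cfsg.Agent.S0223

/-!
# The commuting graph of the involutions

A simple group with two non-commuting involutions in one Sylow 2-subgroup has connected commuting graph of
involutions: otherwise the stabiliser of a component would be strongly embedded, and then the involutions of a
point stabiliser commute with each other.

* `connected`: the commuting graph is connected.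
* `exists_noncomm_invol`: quasi-dihedral and wreathed groups have two non-commuting involutions.
-/

set_option autoImplicit false
set_option linter.unusedSectionVars false

namespace CfsgLib.WeakEmbCore

open Cfsg Relation

universe u

variable {G : Type u} [Group G] [Finite G]

/-- Two commuting involutions. -/
def Adj (a b : G) : Prop := orderOf a = 2 ∧ orderOf b = 2 ∧ Commute a b



theorem adj_symm {a b : G} (h : Adj a b) : Adj b a := ⟨h.2.1, h.1, h.2.2.symm⟩

theorem reach_symm {a b : G} (h : ReflTransGen Adj a b) : ReflTransGen Adj b a := by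
  induction h with
  | refl => exact ReflTransGen.refl
  | tail _ h2 ih => exact ReflTransGen.head (adj_symm h2) ih

theorem reach_conj (g : G) {a b : G} (h : ReflTransGen Adj a b) :
    ReflTransGen Adj (g * a * g⁻¹) (g * b * g⁻¹) := by
  refine h.lift (fun x => g * x * g⁻¹) fun x y hxy => ⟨?_, ?_, ?_⟩
  · exact (MulEquiv.orderOf_eq (MulAut.conj g) x).trans hxy.1
  · exact (MulEquiv.orderOf_eq (MulAut.conj g) y).trans hxy.2.1
  · exact hxy.2.2.map (MulAut.conj g).toMonoidHom

/-- The stabiliser of the component of `z`. -/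
def stab (z : G) : Subgroup G where
  carrier := {g | ReflTransGen Adj z (g * z * g⁻¹)}
  one_mem' := by
    show ReflTransGen Adj z (1 * z * 1⁻¹)
    rw [one_mul, inv_one, mul_one]
  mul_mem' := by
    intro a b ha hb
    show ReflTransGen Adj z (a * b * z * (a * b)⁻¹)
    rw [show a * b * z * (a * b)⁻¹ = a * (b * z * b⁻¹) * a⁻¹ by group]
    exact (show ReflTransGen Adj z (a * z * a⁻¹) from ha).trans (reach_conj a hb)
  inv_mem' := by
    intro a ha
    show ReflTransGen Adj z (a⁻¹ * z * a⁻¹⁻¹)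
    have h1 := reach_conj a⁻¹ (show ReflTransGen Adj z (a * z * a⁻¹) from ha)
    rw [show a⁻¹ * (a * z * a⁻¹) * a⁻¹⁻¹ = z by group] at h1
    exact reach_symm h1

/-- With a strongly embedded subgroup the involutions of a Sylow 2-subgroup inside commute. -/
theorem comm_of_stronglyEmbedded [IsSimpleGroup G] {H : Subgroup G} (hH : IsStronglyEmbedded H) {r s : G}
    (hr : r ∈ H) (hr2 : orderOf r = 2) (hs : s ∈ H) (hs2 : orderOf s = 2) : r * s = s * r := by
  have hinv : ∀ x ∈ H, orderOf x = 2 →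
      x • ((1 : G) : G ⧸ H) = ((1 : G) : G ⧸ H) ∧ x ≠ 1 ∧ x * x = 1 := by
    intro x hx hx2
    refine ⟨?_, ?_, ?_⟩
    · show (((x * 1 : G)) : G ⧸ H) = _
      rw [QuotientGroup.eq]
      simpa using hx
    · intro e
      rw [e, orderOf_one] at hx2
      omega
    · rw [← pow_two, ← hx2, pow_orderOf_eq_one]
  obtain ⟨Q, hQH, hQn, htrans, hreg⟩ :=
    Bender.Assembly.benderHyp.{u} Bender.Assembly.goodAll G H hH (Bender.normalCore_eq_bot hH)
      (Bender.hasFour_of_simple hH)
  obtain ⟨t, -, hS⟩ := Bender.setup hH hQH hQn htrans hreg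
  haveI := Bender.faithful (Bender.normalCore_eq_bot hH)
  obtain ⟨hra, hr1, hrr⟩ := hinv r hr hr2
  obtain ⟨hsa, hs1, hss⟩ := hinv s hs hs2
  exact RankOne.invol_central hS (Bender.hasFour_of_simple hH) ⟨MulAction.mem_stabilizer_iff.2 hra, hr1, hrr⟩
    (RankOne.invol_mem_Q hS hsa hss)

/-- **The commuting graph is connected.** -/
theorem connected [IsSimpleGroup G] (S : Sylow 2 G) {r s : G} (hr : r ∈ (S : Subgroup G)) (hr2 : orderOf r = 2)
    (hs : s ∈ (S : Subgroup G)) (hs2 : orderOf s = 2) (hne : r * s ≠ s * r) {a b : G} (ha : orderOf a = 2)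
    (hb : orderOf b = 2) : ReflTransGen Adj a b := by
  haveI : Fact (Nat.Prime 2) := ⟨Nat.prime_two⟩
  haveI : Nontrivial (S : Subgroup G) := ⟨⟨⟨r, hr⟩, ⟨s, hs⟩, fun e => hne (by
    have e' : r = s := congrArg Subtype.val e
    rw [e'])⟩⟩
  haveI := S.2.center_nontrivial
  obtain ⟨k, hk0, hk⟩ := (S.2.to_subgroup (Subgroup.center ↥(S : Subgroup G))).nontrivial_iff_card.1 inferInstance
  obtain ⟨⟨⟨z, hzS⟩, hzc⟩, hz⟩ := exists_prime_orderOf_dvd_card' (G := ↥(Subgroup.center ↥(S : Subgroup G))) 2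
    (by rw [hk]; exact dvd_pow_self 2 (by omega))
  rw [Subgroup.orderOf_mk, Subgroup.orderOf_mk] at hz
  have hzx : ∀ x ∈ (S : Subgroup G), x * z = z * x := fun x hx =>
    congrArg Subtype.val (Subgroup.mem_center_iff.1 hzc ⟨x, hx⟩)
  have hSN : (S : Subgroup G) ≤ stab z := fun x hx => by
    show ReflTransGen Adj z (x * z * x⁻¹)
    rw [hzx x hx, mul_inv_cancel_right]
  have key : ∀ t ∈ stab z, orderOf t = 2 → ReflTransGen Adj z t := by
    intro t ht ht2
    have hp : IsPGroup 2 (Subgroup.zpowers (⟨t, ht⟩ : stab z)) :=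
      IsPGroup.of_card (n := 1) (by rw [Nat.card_zpowers, Subgroup.orderOf_mk, ht2, pow_one])
    obtain ⟨T, hT⟩ := hp.exists_le_sylow
    obtain ⟨n, hn⟩ := MulAction.exists_smul_eq (stab z) T (S.subtype hSN)
    have h1 : n * ⟨t, ht⟩ * n⁻¹ ∈ (S.subtype hSN : Subgroup (stab z)) := by
      rw [← hn]
      exact Subgroup.smul_mem_pointwise_smul _ (MulAut.conj n) _ (hT (Subgroup.mem_zpowers _))
    have h2 : (n : G) * t * (n : G)⁻¹ ∈ (S : Subgroup G) := h1
    have h3 : ReflTransGen Adj z ((n : G) * t * (n : G)⁻¹) := ReflTransGen.single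
      ⟨hz, (MulEquiv.orderOf_eq (MulAut.conj (n : G)) t).trans ht2, (hzx _ h2).symm⟩
    have h4 := reach_conj (n : G)⁻¹ h3
    rw [show (n : G)⁻¹ * ((n : G) * t * (n : G)⁻¹) * (n : G)⁻¹⁻¹ = t by group] at h4
    exact ((inv_mem n.2 : (n : G)⁻¹ ∈ stab z)).trans h4
  by_cases htop : stab z = ⊤
  · exact (reach_symm (key a (by rw [htop]; exact Subgroup.mem_top a) ha)).trans
      (key b (by rw [htop]; exact Subgroup.mem_top b) hb)
  exfalso
  have heven : Even (Nat.card (stab z)) := even_iff_two_dvd.2 (hz ▸ Subgroup.orderOf_dvd_natCard _ (hSN hzS))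
  have hse : IsStronglyEmbedded (stab z) := by
    refine (Cfsg.Agent.S0223.result (stab z) htop heven).2 ⟨fun t ht ht2 g hg => ?_, ?_⟩
    · have h1 := key t ht ht2
      have h2 := reach_conj g h1
      rw [Subgroup.mem_centralizer_singleton_iff.1 hg, mul_inv_cancel_right] at h2
      exact h1.trans (reach_symm h2)
    · intro t ht t' ht' ht2 ht2' hc
      obtain ⟨g, hg⟩ := isConj_iff.1 hc
      refine ⟨g, ?_, hg⟩
      have h2 := reach_conj g (key t ht ht2)
      rw [hg] at h2
      exact (key t' ht' ht2').trans (reach_symm h2)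
  exact hne (comm_of_stronglyEmbedded hse (hSN hr) hr2 (hSN hs) hs2)

/-- An element and its conjugate that do not commute. -/
theorem exists_noncomm_invol {S : Type*} [Group S] [Finite S] (hS : IsQuasiDihedral S ∨ IsWreathed S) :
    ∃ r s : S, orderOf r = 2 ∧ orderOf s = 2 ∧ r * s ≠ s * r := by
  rcases hS with ⟨n, hn, -, x, y, hx, hy, hxy⟩ | ⟨n, hn, -, x, y, z, hx, hc, hd, hz, hzx⟩
  · refine ⟨y, x * y * x⁻¹, hy, (MulEquiv.orderOf_eq (MulAut.conj x) y).trans hy, fun e => ?_⟩
    have hyy : y * y = 1 := by rw [← pow_two, ← hy, pow_orderOf_eq_one]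
    have hyi : y⁻¹ = y := inv_eq_of_mul_eq_one_right hyy
    obtain ⟨m, rfl⟩ : ∃ m, n = m + 3 := ⟨n - 3, by omega⟩
    set k := 2 ^ (m + 3 - 1) - 1 with hk
    have hk' : k + 1 = 4 * 2 ^ m := by
      rw [hk, show m + 3 - 1 = m + 2 by omega, pow_add, show 2 ^ 2 = 4 from rfl]
      have := Nat.one_le_two_pow (n := m)
      omega
    have hyx : y * x * y = x ^ k := by rw [← hxy, hyi]
    have hyxi : y * x⁻¹ * y = (x ^ k)⁻¹ := by
      rw [← hyx, mul_inv_rev, mul_inv_rev, hyi, mul_assoc]
    -- the product and its inverse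
    have h1 : y * (x * y * x⁻¹) = x ^ k * x⁻¹ := by
      rw [← hyx]; group
    have h2 : x * y * x⁻¹ * y = x * (x ^ k)⁻¹ := by
      rw [← hyxi]; group
    rw [h1, h2] at e
    have h3 : x ^ (k + k) = x ^ 2 := by
      have hck : Commute x (x ^ k) := Commute.self_pow x k
      calc x ^ (k + k) = x ^ k * x⁻¹ * (x * x ^ k) := by rw [pow_add]; group
        _ = x * (x ^ k)⁻¹ * (x * x ^ k) := by rw [e]
        _ = x * (x ^ k)⁻¹ * (x ^ k * x) := by rw [hck.eq]
        _ = x ^ 2 := by group
    have h4 : x ^ (2 ^ (m + 3)) = 1 := hx ▸ pow_orderOf_eq_one x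
    have h5 : x ^ 4 = 1 := by
      have h6 : x ^ (k + k + 2) = x ^ 4 := by rw [pow_add, h3, ← pow_add]
      rw [← h6, show k + k + 2 = 2 ^ (m + 3) by rw [pow_add]; omega, h4]
    have h7 := Nat.le_of_dvd (by norm_num) (orderOf_dvd_of_pow_eq_one h5)
    rw [hx, pow_add] at h7
    have := Nat.one_le_two_pow (n := m)
    omega
  · refine ⟨z, x * z * x⁻¹, hz, (MulEquiv.orderOf_eq (MulAut.conj x) z).trans hz, fun e => ?_⟩
    have hzz : z * z = 1 := by rw [← pow_two, ← hz, pow_orderOf_eq_one]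
    have hzi : z⁻¹ = z := inv_eq_of_mul_eq_one_right hzz
    have hzxz : z * x * z = y := by rw [← hzx, hzi]
    have hzxiz : z * x⁻¹ * z = y⁻¹ := by rw [← hzxz, mul_inv_rev, mul_inv_rev, hzi, mul_assoc]
    have h1 : z * (x * z * x⁻¹) = y * x⁻¹ := by rw [← hzxz]; group
    have h2 : x * z * x⁻¹ * z = x * y⁻¹ := by rw [← hzxiz]; group
    rw [h1, h2] at e
    have h3 : x * x = y * y := by
      calc x * x = x * y⁻¹ * (y * x) := by group
        _ = y * x⁻¹ * (y * x) := by rw [e]
        _ = y * x⁻¹ * (x * y) := by rw [hc]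
        _ = y * y := by group
    have h4 : x * x = 1 := Subgroup.mem_bot.1 (hd.le ⟨⟨2, zpow_two x⟩, ⟨2, (zpow_two y).trans h3.symm⟩⟩)
    have h5 := Nat.le_of_dvd two_pos (orderOf_dvd_of_pow_eq_one (x := x) (n := 2) (by rw [pow_two]; exact h4))
    rw [hx] at h5
    have : 2 ^ 2 ≤ 2 ^ n := Nat.pow_le_pow_right two_pos hn
    omega

end CfsgLib.WeakEmbCore
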