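import Cfsg.Agent.Lib.WeakEmbCore.Connected
import Cfsg.Agent.Lib.RankTwoModel.CMax.Model
import Cfsg.Agent.Lib.RankTwoModel.FixedAction
import Cfsg.Agent.Lib.RankTwoModel.Rep
import Cfsg.Agent.Lib.RankTwoModel.Rows.Main
import Cfsg.Agent.Lib.StrongEmbDim.Main
import Cfsg.Agent.Lib.QDWreathedNoIndexTwo.Main

/-!
# Weakly embedded subgroups with semidihedral or wreathed Sylow 2-subgroups

If `H` covers the centralisers of its involutions modulo their cores, every involution `r` of the simple layer `M`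
commuting with an involution `t` of `H` centralises `O(C(t))` (an element `x` of it inverted by `r` has square in
`O(C_M(t))`, which is central in `C_M(t)`), hence lies in `H`.  The commuting graph being connected, `M ≤ H`,
so `O(H)` centralises `M`.

Blueprint: `blueprint/S3119.md`.
-/

set_option autoImplicit false
set_option linter.unusedSectionVars false
set_option linter.style.haveILetI false

namespace CfsgLib.WeakEmbCore

open Cfsg CfsgLib.RankTwoModel

universe u

variable {G : Type u} [Group G] [Finite G]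

theorem mul_self_of_order {x : G} (h : orderOf x = 2) : x * x = 1 := by
  rw [← pow_two, ← h, pow_orderOf_eq_one]

/-- An involution lies in a normal subgroup of odd index. -/
theorem mem_of_odd_index {M : Subgroup G} [M.Normal] (hM : Odd M.index) {t : G} (ht : t * t = 1) : t ∈ M := by
  refine (QuotientGroup.eq_one_iff t).1 (orderOf_eq_one_iff.1 ?_)
  have h1 : orderOf (t : G ⧸ M) ∣ 2 := orderOf_dvd_of_pow_eq_one (by rw [pow_two, ← QuotientGroup.mk_mul, ht,
    QuotientGroup.mk_one])
  exact Nat.eq_one_of_dvd_coprimes (Nat.coprime_two_left.2 hM) h1 (orderOf_dvd_natCard _)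

/-- The core-free case. -/
theorem core_free (main : Rows.Main.{u}) (hO : oddCore G = ⊥) {M : Subgroup G} [M.Normal] (hMi : Odd M.index)
    (hs : IsSimpleGroup M) (hq : QW M) (K : Subgroup G) (hev : ∃ y ∈ K, orderOf y = 2)
    (hcov : ∀ y ∈ K, orderOf y = 2 → ∀ c ∈ Subgroup.centralizer ({y} : Set G),
      ∃ k ∈ K, ∃ o ∈ centralizerPPrimeCore 2 y, c = k * o) :
    (oddCore K).map K.subtype = ⊥ := by
  haveI : Fact (Nat.Prime 2) := ⟨Nat.prime_two⟩
  haveI := hs
  have hm : Model M := reduction main M hs hq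
  have hna := hq.noncomm
  have hcen : Subgroup.center M = ⊥ := (inferInstance : (Subgroup.center M).Normal).eq_bot_or_eq_top.resolve_right
    fun e => hna ⟨⟨fun a b => Subgroup.mem_center_iff.1 (e ▸ Subgroup.mem_top b) a⟩⟩
  -- the centraliser of `M` is trivial
  set C := Subgroup.centralizer (M : Set G) with hCdef
  haveI : C.Normal := Subgroup.normal_centralizer
  have hCM : ∀ x ∈ C, x ∈ M → x = 1 := fun x hx hxM => congrArg Subtype.val (Subgroup.mem_bot.1 (hcen.le
    (show (⟨x, hxM⟩ : M) ∈ Subgroup.center M from Subgroup.mem_center_iff.2 fun g =>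
      Subtype.ext (Subgroup.mem_centralizer_iff.1 hx g g.2))))
  have hCbot : C = ⊥ := by
    refine le_bot_iff.1 (hO ▸ CfsgLib.le_oddCore (Nat.not_even_iff_odd.1 fun he => ?_))
    obtain ⟨c, hc⟩ := exists_prime_orderOf_dvd_card' (G := C) 2 (even_iff_two_dvd.1 he)
    rw [← Subgroup.orderOf_coe] at hc
    have := hCM c c.2 (mem_of_odd_index hMi (mul_self_of_order hc))
    rw [this, orderOf_one] at hc
    omega
  -- involutions commuting with involutions of `K` are in `K`
  have step : ∀ r t : G, orderOf r = 2 → orderOf t = 2 → Commute r t → t ∈ K → r ∈ K := by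
    intro r t hr ht hrt htK
    obtain ⟨k, hk, o, ho, he⟩ := hcov t htK ht r (Subgroup.mem_centralizer_singleton_iff.2 hrt.eq)
    set W := centralizerPPrimeCore 2 t with hW
    have hrM : r ∈ M := mem_of_odd_index hMi (mul_self_of_order hr)
    have htM : t ∈ M := mem_of_odd_index hMi (mul_self_of_order ht)
    have hWC : ∀ w ∈ W, w * t = t * w := fun w hw =>
      Subgroup.mem_centralizer_singleton_iff.1 (Subgroup.map_subtype_le _ hw)
    have hWn : ∀ c : G, c * t = t * c → ∀ w ∈ W, c * w * c⁻¹ ∈ W := by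
      rintro c hc _ ⟨w, hw, rfl⟩
      exact ⟨⟨c, Subgroup.mem_centralizer_singleton_iff.2 hc⟩ * w * ⟨c, Subgroup.mem_centralizer_singleton_iff.2 hc⟩⁻¹,
        (inferInstance : (pPrimeCore 2 ↥(Subgroup.centralizer ({t} : Set G))).Normal).conj_mem w hw _, rfl⟩
    have hWodd : Odd (Nat.card W) := by
      rw [hW, centralizerPPrimeCore, Subgroup.card_map_of_injective (Subgroup.subtype_injective _)]
      exact Nat.coprime_two_right.mp (CfsgLib.card_pPrimeCore_coprime 2)
    set R : Subgroup M := W.subgroupOf M with hR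
    have hRodd : Odd (Nat.card R) := by
      have h1 : Nat.card R = Nat.card (W ⊓ M : Subgroup G) := by
        rw [hR, ← Subgroup.inf_subgroupOf_right W M]
        exact Nat.card_congr (Subgroup.subgroupOfEquivOfLe inf_le_right).toEquiv
      rw [h1]
      exact hWodd.of_dvd_nat (Subgroup.card_dvd_of_le inf_le_left)
    have hcentral := Model.odd_central hs hq hm (t := (⟨t, htM⟩ : M)) ((Subgroup.orderOf_mk t htM).trans ht)
      (R := R) hRodd
      (fun w hw => Subgroup.mem_centralizer_singleton_iff.2 (Subtype.ext (hWC _ hw)))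
      (fun c hc w hw => hWn _ (congrArg Subtype.val (Subgroup.mem_centralizer_singleton_iff.1 hc) :) _ hw)
    -- no element of `W` is inverted by `r`
    have hnone : ∀ x ∈ W, r * x * r⁻¹ = x⁻¹ → x = 1 := by
      intro x hx hxr
      have hx2 : x * x ∈ M := by
        rw [show x * x = x * r * x⁻¹ * r⁻¹ by
          rw [show x * r * x⁻¹ * r⁻¹ = x * (r * x * r⁻¹)⁻¹ by group, hxr, inv_inv]]
        exact mul_mem ((inferInstance : M.Normal).conj_mem r hrM x) (inv_mem hrM)
      obtain ⟨j, hj⟩ := hWodd.of_dvd_nat (Subgroup.orderOf_dvd_natCard W hx)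
      have hxM : x ∈ M := by
        have h1 : (x * x) ^ (j + 1) = x := by
          rw [← pow_two, ← pow_mul, show 2 * (j + 1) = orderOf x + 1 by omega, pow_succ, pow_orderOf_eq_one,
            one_mul]
        rw [← h1]
        exact pow_mem hx2 _
      have h1 : r * x = x * r := congrArg Subtype.val (hcentral (⟨r, hrM⟩ : M)
        (Subgroup.mem_centralizer_singleton_iff.2 (Subtype.ext hrt.eq)) (⟨x, hxM⟩ : M) hx)
      rw [h1, mul_inv_cancel_right] at hxr
      have h2 : orderOf x ∣ 2 := orderOf_dvd_of_pow_eq_one (by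
        rw [pow_two]
        exact eq_inv_iff_mul_eq_one.1 hxr)
      have h3 := Nat.le_of_dvd two_pos h2
      exact orderOf_eq_one_iff.1 (by omega)
    have hro : Commute r o := by
      obtain ⟨c, -, x, hx, hc, hxr, hcx⟩ := exists_fixed_mul_inverted hWodd
        (Subgroup.mem_normalizer_fintype fun w hw => hWn r hrt.eq w hw) (mul_self_of_order hr) ho
      rw [hnone x hx hxr, mul_one] at hcx
      rw [hcx]
      exact mul_inv_eq_iff_eq_mul.1 hc
    obtain ⟨j, hj⟩ := hWodd.of_dvd_nat (Subgroup.orderOf_dvd_natCard W ho)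
    have hkr : k = r * o⁻¹ := by rw [he, mul_inv_cancel_right]
    have h1 : k ^ orderOf o = r := by
      rw [hkr, hro.inv_right.mul_pow, inv_pow, pow_orderOf_eq_one, inv_one, mul_one, hj, pow_succ, pow_mul,
        pow_two, mul_self_of_order hr, one_pow, one_mul]
    exact h1 ▸ pow_mem hk _
  -- hence `K` contains `M`
  obtain ⟨T, hT⟩ := hq
  obtain ⟨r₀, s₀, hr₀, hs₀, hrs⟩ := exists_noncomm_invol hT
  obtain ⟨y, hyK, hy⟩ := hev
  have hyM : y ∈ M := mem_of_odd_index hMi (mul_self_of_order hy)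
  have hall : ∀ b : M, orderOf b = 2 → (b : G) ∈ K := by
    intro b hb
    have hc := connected T r₀.2 ((Subgroup.orderOf_coe r₀).trans hr₀) s₀.2 ((Subgroup.orderOf_coe s₀).trans hs₀)
      (fun e => hrs (Subtype.ext e)) (a := (⟨y, hyM⟩ : M)) ((Subgroup.orderOf_mk y hyM).trans hy) hb
    clear hb
    induction hc with
    | refl => exact hyK
    | @tail a c _ hac ih =>
      exact step c a ((Subgroup.orderOf_coe c).trans hac.2.1) ((Subgroup.orderOf_coe a).trans hac.1)
        (hac.2.2.symm.map M.subtype) ih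
  have hMK : M ≤ K := by
    set I : Subgroup M := Subgroup.normalClosure {b : M | orderOf b = 2} with hI
    have hItop : I = ⊤ := (inferInstance : I.Normal).eq_bot_or_eq_top.resolve_left fun e => by
      have h1 : (⟨y, hyM⟩ : M) ∈ I := Subgroup.subset_normalClosure ((Subgroup.orderOf_mk y hyM).trans hy)
      rw [e, Subgroup.mem_bot] at h1
      have h2 : y = 1 := congrArg Subtype.val h1
      rw [h2, orderOf_one] at hy
      omega
    intro m hm'
    have h1 : I ≤ K.comap M.subtype := (Subgroup.closure_le _).2 fun b hb => by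
      obtain ⟨a, ha, hab⟩ := Group.mem_conjugatesOfSet_iff.1 hb
      obtain ⟨g, rfl⟩ := isConj_iff.1 hab
      exact hall _ ((MulEquiv.orderOf_eq (MulAut.conj g) a).trans ha)
    exact h1 (show (⟨m, hm'⟩ : M) ∈ I from hItop ▸ Subgroup.mem_top _)
  -- so the core of `K` centralises `M`
  refine le_bot_iff.1 (hCbot ▸ ?_)
  rintro w ⟨w', hw', rfl⟩
  refine Subgroup.mem_centralizer_iff.2 fun m hm' => ?_
  set N : Subgroup M := ((oddCore K).map K.subtype).subgroupOf M with hN
  have hNn : N.Normal := ⟨by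
    rintro n ⟨n', hn', he⟩ g
    exact ⟨⟨g, hMK g.2⟩ * n' * ⟨g, hMK g.2⟩⁻¹, (inferInstance : (oddCore K).Normal).conj_mem n' hn' _, by
      simp only [Subgroup.coe_subtype, Subgroup.coe_mul, Subgroup.coe_inv]
      exact congrArg (fun x => (g : G) * x * (g : G)⁻¹) he⟩⟩
  have hNbot : N = ⊥ := hNn.eq_bot_or_eq_top.resolve_right fun e => by
    obtain ⟨n', hn', he⟩ := (show (⟨y, hyM⟩ : M) ∈ N from e ▸ Subgroup.mem_top _)
    have he' : (n' : G) = y := he
    have h1 := Subgroup.orderOf_dvd_natCard _ hn'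
    rw [← Subgroup.orderOf_coe, he', hy] at h1
    exact Nat.not_even_iff_odd.2 CfsgLib.odd_card_oddCore (even_iff_two_dvd.2 h1)
  have hc : ((w' : G)) * m * (w' : G)⁻¹ * m⁻¹ ∈ M :=
    mul_mem ((inferInstance : M.Normal).conj_mem m hm' _) (inv_mem hm')
  have hmem : (⟨_, hc⟩ : M) ∈ N := ⟨w' * (⟨m, hMK hm'⟩ * w'⁻¹ * ⟨m, hMK hm'⟩⁻¹),
    mul_mem hw' ((inferInstance : (oddCore K).Normal).conj_mem _ (inv_mem hw') _), by
      simp only [Subgroup.coe_subtype, Subgroup.coe_mul, Subgroup.coe_inv]
      group⟩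
  have h1 : (w' : G) * m * (w' : G)⁻¹ * m⁻¹ = 1 :=
    congrArg Subtype.val (Subgroup.mem_bot.1 (hNbot.le hmem))
  exact (mul_inv_eq_iff_eq_mul.1 (mul_inv_eq_one.1 h1)).symm

/-- **The core of a weakly embedded subgroup.** -/
theorem core_le (main : Rows.Main.{u}) (S : Sylow 2 G)
    (hS : IsQuasiDihedral (S : Subgroup G) ∨ IsWreathed (S : Subgroup G)) (h2 : ∀ N : Subgroup G, N.index ≠ 2)
    (H : Subgroup G) (hev : ∃ y ∈ H, orderOf y = 2)
    (hcov : ∀ y ∈ H, orderOf y = 2 → ∀ c ∈ Subgroup.centralizer ({y} : Set G),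
      ∃ h ∈ H, ∃ o ∈ centralizerPPrimeCore 2 y, c = h * o) :
    (oddCore H).map H.subtype ≤ oddCore G := by
  haveI : Fact (Nat.Prime 2) := ⟨Nat.prime_two⟩
  set π := QuotientGroup.mk' (oddCore G) with hπdef
  have hπ : Function.Surjective π := QuotientGroup.mk'_surjective (oddCore G)
  have hodd := CfsgLib.odd_card_oddCore (G := G)
  obtain ⟨M, hMn, hMi, hs, -⟩ := CfsgLib.QDWNoTwo.main S hS h2
  haveI := hMn
  obtain ⟨P, f, hf⟩ := CfsgLib.StrongEmbDim.sylow_image hodd S M hMi
  have hq : QW M := ⟨P, CfsgLib.QDWNoTwo.shape_equiv (MulEquiv.ofBijective f hf) hS⟩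
  have hO : oddCore (G ⧸ oddCore G) = ⊥ := CfsgLib.pPrimeCore_quotient_eq_bot 2
  have key := core_free main hO hMi hs hq (H.map π) ?_ ?_
  · intro w hw
    obtain ⟨w', hw', rfl⟩ := hw
    refine (QuotientGroup.eq_one_iff _).1 (Subgroup.mem_bot.1 (key.le ?_))
    let g : H →* (H.map π : Subgroup (G ⧸ oddCore G)) := π.subgroupMap H
    haveI : ((oddCore H).map g).Normal :=
      Subgroup.Normal.map inferInstance g (π.subgroupMap_surjective H)
    exact ⟨g w', CfsgLib.le_oddCore (CfsgLib.odd_card_oddCore.of_dvd_nat (Subgroup.card_map_dvd _ _))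
      ⟨w', hw', rfl⟩, rfl⟩
  · obtain ⟨y, hy, hy2⟩ := hev
    refine ⟨π y, Subgroup.mem_map_of_mem π hy, orderOf_eq_prime ?_ ?_⟩
    · rw [← map_pow, pow_two, mul_self_of_order hy2, map_one]
    · intro e
      have h1 := Subgroup.orderOf_dvd_natCard _ ((QuotientGroup.eq_one_iff y).1 e)
      rw [hy2] at h1
      exact Nat.not_even_iff_odd.2 hodd (even_iff_two_dvd.2 h1)
  · intro y' hy' hy'2 c hc
    obtain ⟨y₀, hy₀, rfl⟩ := hy'
    have hsq : y₀ * y₀ ∈ oddCore G := (QuotientGroup.eq_one_iff _).1 (by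
      show π (y₀ * y₀) = 1
      rw [map_mul, mul_self_of_order hy'2])
    obtain ⟨j, hj⟩ := hodd.of_dvd_nat (Subgroup.orderOf_dvd_natCard _ hsq)
    set y := y₀ ^ orderOf (y₀ * y₀) with hydef
    have hπy : π y = π y₀ := by
      rw [hydef, map_pow, hj, pow_succ, pow_mul, pow_two, mul_self_of_order hy'2, one_pow, one_mul]
    have hyy : y * y = 1 := by
      rw [hydef, ← pow_add, ← two_mul, pow_mul, pow_two, pow_orderOf_eq_one]
    have hy2 : orderOf y = 2 := orderOf_eq_prime (by rw [pow_two, hyy]) fun e => by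
      rw [← hπy, e, map_one, orderOf_one] at hy'2
      omega
    obtain ⟨x, rfl⟩ := hπ c
    obtain ⟨b, hb, hbx⟩ := CfsgLib.RankTwoModel.lift_comm hodd hyy
      (fun o ho => (inferInstance : (oddCore G).Normal).conj_mem o ho y) ((QuotientGroup.eq_one_iff _).1 (by
        show π (x * y * x⁻¹ * y⁻¹) = 1
        rw [map_mul, map_mul, map_mul, map_inv, map_inv, hπy,
          Subgroup.mem_centralizer_singleton_iff.1 hc]
        group))
    obtain ⟨h, hh, o, ho, he⟩ :=
      hcov y (pow_mem hy₀ _) hy2 (b * x) (Subgroup.mem_centralizer_singleton_iff.2 hbx)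
    refine ⟨π h, Subgroup.mem_map_of_mem π hh, π o, ?_, ?_⟩
    · obtain ⟨o', ho', rfl⟩ := ho
      let g : ↥(Subgroup.centralizer ({y} : Set G)) →*
          ↥(Subgroup.centralizer ({π y₀} : Set (G ⧸ oddCore G))) :=
        (π.comp (Subgroup.centralizer ({y} : Set G)).subtype).codRestrict _ fun a =>
          Subgroup.mem_centralizer_singleton_iff.2 (by
            show π a * π y₀ = π y₀ * π a
            rw [← hπy, ← map_mul, ← map_mul, Subgroup.mem_centralizer_singleton_iff.1 a.2])
      have hg : Function.Surjective g := by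
        rintro ⟨q, hq'⟩
        obtain ⟨a, rfl⟩ := hπ q
        obtain ⟨b', hb', hba⟩ := CfsgLib.RankTwoModel.lift_comm hodd hyy
          (fun o ho => (inferInstance : (oddCore G).Normal).conj_mem o ho y)
          (x := a) ((QuotientGroup.eq_one_iff _).1 (by
            show π (a * y * a⁻¹ * y⁻¹) = 1
            rw [map_mul, map_mul, map_mul, map_inv, map_inv, hπy,
              Subgroup.mem_centralizer_singleton_iff.1 hq']
            group))
        refine ⟨⟨b' * a, Subgroup.mem_centralizer_singleton_iff.2 hba⟩, Subtype.ext ?_⟩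
        show π (b' * a) = π a
        rw [map_mul, show π b' = 1 from (QuotientGroup.eq_one_iff _).2 hb', one_mul]
      haveI : ((pPrimeCore 2 ↥(Subgroup.centralizer ({y} : Set G))).map g).Normal :=
        Subgroup.Normal.map inferInstance g hg
      exact ⟨g o', CfsgLib.le_pPrimeCore ((CfsgLib.card_pPrimeCore_coprime 2).coprime_dvd_left
        (Subgroup.card_map_dvd _ _)) ⟨o', ho', rfl⟩, rfl⟩
    · rw [← map_mul, ← he, map_mul, show π b = 1 from (QuotientGroup.eq_one_iff _).2 hb, one_mul]

end CfsgLib.WeakEmbCore
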